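import Groth.Agent.MP99.Basic
import Groth.Prelude.Def_BlowUp2
import Groth.Prelude.Def_CurvBase
import Mathlib.Topology.Sheaves.SheafCondition.UniqueGluing

/-! Blow-up of an affine scheme in an ideal which is free of rank one over a bigger ring. -/

set_option autoImplicit false
universe u

open CategoryTheory AlgebraicGeometry TopologicalSpace Opposite

namespace Groth.Agent.Blow97

variable {A : Type u} [CommRing A] {Y : Scheme.{u}}

/-- The ring map of a morphism to an affine scheme. -/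
noncomputable def gam (g : Y ⟶ Spec (CommRingCat.of A)) : A →+* Γ(Y, ⊤) :=
  ((Scheme.ΓSpecIso (CommRingCat.of A)).inv ≫ g.appTop).hom

/-- Restriction from the top. -/
noncomputable abbrev res (U : Y.Opens) : Γ(Y, ⊤) →+* Γ(Y, U) :=
  (Y.presheaf.map (homOfLE (le_top : U ≤ ⊤)).op).hom

theorem res_res {U V : Y.Opens} (h : V ≤ U) (s : Γ(Y, ⊤)) :
    (Y.presheaf.map (homOfLE h).op).hom (res U s) = res V s :=
  (ConcreteCategory.congr_hom (Y.presheaf.map_comp (homOfLE (le_top : U ≤ ⊤)).op (homOfLE h).op) s).symm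

theorem ideal_comap_idealSheaf (g : Y ⟶ Spec (CommRingCat.of A)) (I : Ideal A) (V : Y.affineOpens) :
    ((Curv2.idealSheaf A I).comap g).ideal V = I.map ((res V.1).comp (gam g)) := by
  rw [MP99.ideal_comap _ g ⟨⊤, isAffineOpen_top _⟩ V le_top, Curv2.idealSheaf,
    Scheme.IdealSheafData.ofIdealTop_ideal, Ideal.map_map, Ideal.map_map]
  congr 1

variable (g : Y ⟶ Spec (CommRingCat.of A)) (I : Ideal A) (i₀ : A)

/-- If the pullback of `I` is Cartier and every square of an element of `I` lies in `i₀ I`, then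
`i₀` is everywhere a nonzerodivisor generator of the pullback. -/
theorem generator_chart (hi₀ : i₀ ∈ I) (hsq : ∀ i ∈ I, ∃ i' ∈ I, i * i = i' * i₀)
    (hY : BlowUp.IsEffCartierIdeal ((Curv2.idealSheaf A I).comap g)) (y : Y) :
    ∃ U : Y.affineOpens, y ∈ U.1 ∧ res U.1 (gam g i₀) ∈ nonZeroDivisors Γ(Y, U.1) ∧
      ∀ i ∈ I, ∃ a : Γ(Y, U.1), res U.1 (gam g i) = a * res U.1 (gam g i₀) := by
  obtain ⟨U, hy, e, he, heq⟩ := hY y
  rw [ideal_comap_idealSheaf] at heq
  have hdiv : ∀ i ∈ I, ∃ a : Γ(Y, U.1), res U.1 (gam g i) = a * e := fun i hi => by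
    have : (res U.1).comp (gam g) i ∈ Ideal.span {e} := heq ▸ Ideal.mem_map_of_mem _ hi
    obtain ⟨a, ha⟩ := Ideal.mem_span_singleton'.1 this
    exact ⟨a, ha.symm⟩
  obtain ⟨a₀, ha₀⟩ := hdiv i₀ hi₀
  let R : Ideal Γ(Y, U.1) := (Ideal.span {a₀}).radical
  have hRe : ∀ i ∈ I, ∃ a ∈ R, res U.1 (gam g i) = a * e := by
    intro i hi
    obtain ⟨a, ha⟩ := hdiv i hi
    obtain ⟨i', hi', h⟩ := hsq i hi
    obtain ⟨a', ha'⟩ := hdiv i' hi'
    refine ⟨a, ⟨2, ?_⟩, ha⟩
    have h1 : (a * e) * (a * e) = (a' * e) * (a₀ * e) := by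
      rw [← ha, ← ha', ← ha₀, ← map_mul, ← map_mul, h, map_mul, map_mul]
    have h2 : a ^ 2 = a' * a₀ := by
      refine mul_cancel_right_mem_nonZeroDivisors (mul_mem he he) |>.1 ?_
      linear_combination h1
    rw [h2]
    exact Ideal.mul_mem_left _ _ (Ideal.mem_span_singleton_self a₀)
  have hle : Ideal.span {e} ≤ R * Ideal.span {e} := by
    rw [← heq, Ideal.map_le_iff_le_comap]
    intro i hi
    obtain ⟨a, ha, hae⟩ := hRe i hi
    rw [Ideal.mem_comap, RingHom.comp_apply, hae, heq]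
    exact Ideal.mul_mem_mul ha (Ideal.mem_span_singleton_self e)
  obtain ⟨r, hr, hre⟩ := Ideal.mem_mul_span_singleton.1 (show e ∈ R * Ideal.span {e} from hle (Ideal.mem_span_singleton_self e))
  have hr1 : r = 1 := (mul_cancel_right_mem_nonZeroDivisors he).1 (by rw [hre, one_mul])
  have hunit : IsUnit a₀ := by
    subst hr1
    obtain ⟨n, hn⟩ := hr
    rw [one_pow, Ideal.mem_span_singleton] at hn
    exact isUnit_of_dvd_one hn
  refine ⟨U, hy, ?_, fun i hi => ?_⟩
  · rw [ha₀]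
    exact mul_mem hunit.mem_nonZeroDivisors he
  · obtain ⟨a, ha⟩ := hdiv i hi
    refine ⟨a * ↑hunit.unit⁻¹, ?_⟩
    rw [ha, ha₀, mul_assoc, ← mul_assoc _ a₀ e, hunit.val_inv_mul, one_mul]

variable (hi₀ : i₀ ∈ I) (hsq : ∀ i ∈ I, ∃ i' ∈ I, i * i = i' * i₀)
  (hY : BlowUp.IsEffCartierIdeal ((Curv2.idealSheaf A I).comap g))

include hi₀ hsq hY in
theorem injective_mul (W : Y.Opens) (s t : Γ(Y, W))
    (h : s * res W (gam g i₀) = t * res W (gam g i₀)) : s = t := by
  choose U hyU hnz _ using generator_chart g I i₀ hi₀ hsq hY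
  have hV : ∀ y : ↥W, ∃ V : Y.affineOpens, (y : Y) ∈ V.1 ∧ V.1 ≤ W ⊓ (U y).1 := fun y => by
    obtain ⟨V, hV, hyV, hVle⟩ := exists_isAffineOpen_mem_and_subset (x := (y : Y)) (U := W ⊓ (U y).1)
      ⟨y.2, hyU y⟩
    exact ⟨⟨V, hV⟩, hyV, hVle⟩
  choose V hyV hVle using hV
  refine (Y.sheaf).eq_of_locally_eq' (fun y : ↥W => (V y).1) W (fun y => homOfLE ((hVle y).trans inf_le_left))
    (fun y hy => TopologicalSpace.Opens.mem_iSup.2 ⟨⟨y, hy⟩, hyV ⟨y, hy⟩⟩) s t (fun y => ?_)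
  have hle : (V y).1 ≤ (U y).1 := (hVle y).trans inf_le_right
  have h1 := congrArg (Y.presheaf.map (homOfLE ((hVle y).trans inf_le_left)).op).hom h
  rw [map_mul, map_mul, res_res] at h1
  have h2 : res (V y).1 (gam g i₀) ∈ nonZeroDivisors Γ(Y, (V y).1) := by
    rw [← res_res hle]
    exact MP99.map_mem_nonZeroDivisors (U := U y) (V := V y) hle (hnz y)
  exact (mul_cancel_right_mem_nonZeroDivisors h2).1 h1

include hi₀ hsq hY in
theorem exists_div (i : A) (hi : i ∈ I) : ∃ s : Γ(Y, ⊤), s * gam g i₀ = gam g i := by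
  choose U hyU _ hdiv using generator_chart g I i₀ hi₀ hsq hY
  choose a ha using fun y => hdiv y i hi
  have hcompat : TopCat.Presheaf.IsCompatible Y.sheaf.1 (fun y => (U y).1) a := by
    intro y z
    refine injective_mul g I i₀ hi₀ hsq hY _ _ _ ?_
    have h1 := congrArg (Y.presheaf.map (homOfLE (inf_le_left : (U y).1 ⊓ (U z).1 ≤ _)).op).hom (ha y)
    have h2 := congrArg (Y.presheaf.map (homOfLE (inf_le_right : (U y).1 ⊓ (U z).1 ≤ _)).op).hom (ha z)
    rw [map_mul, res_res, res_res] at h1 h2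
    exact h1.symm.trans h2
  obtain ⟨s, hs⟩ : ∃ s : Γ(Y, ⊤), ∀ y, res (U y).1 s = a y := by
    obtain ⟨s, hs, -⟩ := Y.sheaf.existsUnique_gluing' (fun y => (U y).1) ⊤ (fun y => homOfLE le_top)
      (fun y _ => TopologicalSpace.Opens.mem_iSup.2 ⟨y, hyU y⟩) a hcompat
    exact ⟨s, hs⟩
  refine ⟨s, Y.sheaf.eq_of_locally_eq' (fun y => (U y).1) ⊤ (fun y => homOfLE le_top)
    (fun y _ => TopologicalSpace.Opens.mem_iSup.2 ⟨y, hyU y⟩) _ _ (fun y => ?_)⟩
  show res (U y).1 (s * gam g i₀) = res (U y).1 (gam g i)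
  rw [map_mul, hs y, ← ha y]

theorem isBlowUp {A B : Type u} [CommRing A] [CommRing B] [Algebra A B]
    (hinj : Function.Injective (algebraMap A B)) (I : Ideal A)
    (hIB : (Ideal.map (algebraMap A B) I : Set B) ⊆ algebraMap A B '' (I : Set A))
    (f : B) (hf : f ∈ nonZeroDivisors B) (hgen : Ideal.map (algebraMap A B) I = Ideal.span {f}) :
    BlowUp.IsBlowUp (Spec.map (CommRingCat.ofHom (algebraMap A B))) (Curv2.idealSheaf A I) := by
  set φ := algebraMap A B
  set b := Spec.map (CommRingCat.ofHom φ)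
  have hgamb : ∀ x : A, gam b x = (Scheme.ΓSpecIso (CommRingCat.of B)).inv.hom (φ x) := fun x =>
    (ConcreteCategory.congr_hom (Scheme.ΓSpecIso_inv_naturality (CommRingCat.ofHom φ)) x).symm
  refine ⟨fun p => ⟨⟨⊤, isAffineOpen_top _⟩, trivial, (Scheme.ΓSpecIso (CommRingCat.of B)).inv.hom f, ?_, ?_⟩, ?_⟩
  · let e := (Scheme.ΓSpecIso (CommRingCat.of B)).commRingCatIsoToRingEquiv.symm
    exact (MulEquivClass.map_nonZeroDivisors e ▸ Submonoid.mem_map_of_mem _ hf : e f ∈ nonZeroDivisors _)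
  · rw [ideal_comap_idealSheaf]
    have : (res (⊤ : (Spec (CommRingCat.of B)).Opens)).comp (gam b) =
        (Scheme.ΓSpecIso (CommRingCat.of B)).inv.hom.comp φ := RingHom.ext fun x => by
      show res ⊤ (gam b x) = _
      rw [res, show (homOfLE (le_top : (⊤ : (Spec (CommRingCat.of B)).Opens) ≤ ⊤)).op = 𝟙 _ from rfl,
        CategoryTheory.Functor.map_id]
      exact hgamb x
    show Ideal.map ((res ⊤).comp (gam b)) I = _
    rw [this, ← Ideal.map_map, hgen, Ideal.map_span, Set.image_singleton]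
  intro Y g hY
  obtain ⟨i₀, hi₀, hi₀f⟩ := hIB (hgen ▸ Ideal.mem_span_singleton_self f : f ∈ Ideal.map φ I)
  have hlift : ∀ x : B, ∃ i ∈ I, φ i = x * f := fun x => by
    obtain ⟨i, hi, h⟩ := hIB (hgen ▸ Ideal.mem_span_singleton'.2 ⟨x, rfl⟩ : x * f ∈ Ideal.map φ I)
    exact ⟨i, hi, h⟩
  have hsq : ∀ i ∈ I, ∃ i' ∈ I, i * i = i' * i₀ := by
    intro i hi
    obtain ⟨c, hc⟩ := Ideal.mem_span_singleton'.1 (hgen ▸ Ideal.mem_map_of_mem φ hi)
    obtain ⟨i', hi', h⟩ := hlift (c * c)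
    refine ⟨i', hi', hinj ?_⟩
    rw [map_mul, map_mul, h, hi₀f, ← hc]
    ring
  have cancel : ∀ s t : Γ(Y, ⊤), s * gam g i₀ = t * gam g i₀ → s = t := fun s t h => by
    refine injective_mul g I i₀ hi₀ hsq hY ⊤ s t ?_
    have hres : ∀ r : Γ(Y, ⊤), res ⊤ r = r := fun r => by
      rw [res, show (homOfLE (le_top : (⊤ : Y.Opens) ≤ ⊤)).op = 𝟙 _ from rfl, CategoryTheory.Functor.map_id]
      rfl
    rwa [hres]
  choose L hLI hL using hlift
  choose Ψ hΨ using fun x => exists_div g I i₀ hi₀ hsq hY (L x) (hLI x)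
  have key : ∀ (x : B) (i : A), φ i = x * f → Ψ x * gam g i₀ = gam g i := fun x i hi => by
    rw [hΨ, hinj ((hL x).trans hi.symm)]
  let ψ : B →+* Γ(Y, ⊤) :=
    { toFun := Ψ
      map_one' := cancel _ _ (by rw [key 1 i₀ (by rw [hi₀f, one_mul]), one_mul])
      map_zero' := cancel _ _ (by rw [key 0 0 (by simp), map_zero, zero_mul])
      map_add' := fun x y => cancel _ _ (by
        rw [key (x + y) (L x + L y) (by rw [map_add, hL, hL, add_mul]), map_add, add_mul, hΨ, hΨ])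
      map_mul' := fun x y => cancel _ _ (cancel _ _ (by
        rw [hΨ (x * y), show Ψ x * Ψ y * gam g i₀ * gam g i₀ = (Ψ x * gam g i₀) * (Ψ y * gam g i₀) by ring,
          hΨ, hΨ, ← map_mul, ← map_mul]
        congr 1
        apply hinj
        rw [map_mul, map_mul, hL, hL, hL, hi₀f]
        ring)) }
  have hψφ : ∀ x, ψ (φ x) = gam g x := fun x => cancel _ _ (by
    show Ψ (φ x) * _ = _
    rw [key (φ x) (x * i₀) (by rw [map_mul, hi₀f]), map_mul])
  have hgam : ∀ h : Y ⟶ Spec (CommRingCat.of B), ∀ x : A,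
      gam (h ≫ b) x = gam h (φ x) := fun h x => by
    simp only [gam, Scheme.Hom.comp_appTop]
    exact congrArg h.appTop.hom (hgamb x)
  have hgamInj : ∀ {C : Type u} [CommRing C] (h h' : Y ⟶ Spec (CommRingCat.of C)),
      (∀ c, gam h c = gam h' c) → h = h' := by
    intro C _ h h' hh
    refine ext_of_isAffine ?_
    rw [← cancel_epi (Scheme.ΓSpecIso (CommRingCat.of C)).inv]
    exact CommRingCat.hom_ext (RingHom.ext hh)
  refine ⟨Y.toSpecΓ ≫ Spec.map (CommRingCat.ofHom ψ), ?_, fun h hh => ?_⟩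
  · refine hgamInj _ _ fun x => ?_
    rw [hgam]
    simp only [gam, Scheme.Hom.comp_appTop, Scheme.toSpecΓ_appTop]
    rw [← Category.assoc, ← Scheme.ΓSpecIso_inv_naturality, Category.assoc, Iso.inv_hom_id, Category.comp_id]
    exact hψφ x
  · refine hgamInj _ _ fun x => ?_
    have h2 : gam (Y.toSpecΓ ≫ Spec.map (CommRingCat.ofHom ψ)) x = ψ x := by
      simp only [gam, Scheme.Hom.comp_appTop, Scheme.toSpecΓ_appTop]
      rw [← Category.assoc, ← Scheme.ΓSpecIso_inv_naturality, Category.assoc, Iso.inv_hom_id, Category.comp_id]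
      rfl
    rw [h2]
    refine cancel _ _ ?_
    have e : ∀ y : A, gam h (φ y) = gam g y := fun y => by rw [← hgam, hh]
    show _ = Ψ x * _
    rw [hΨ, ← e, ← e, ← map_mul, hL, hi₀f]

end Groth.Agent.Blow97
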